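import Mathlib

set_option autoImplicit false
open scoped commutatorElement

namespace Groth.Agent.Lib.Helper5.Theta

universe u

section Pairing
variable {k : Type u} [Field k] {Γ : Type u} [Group Γ] (ι : kˣ →* Γ)

theorem comm_mem_range (hcomm : commutator Γ ≤ ι.range) (x y : Γ) : ⁅x, y⁆ ∈ ι.range :=
  hcomm (Subgroup.commutator_mem_commutator (Subgroup.mem_top x) (Subgroup.mem_top y))

/-- the commutator pairing value -/
noncomputable def c (hcomm : commutator Γ ≤ ι.range) (x y : Γ) : kˣ :=
  Classical.choose (comm_mem_range ι hcomm x y)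

theorem ι_c (hcomm : commutator Γ ≤ ι.range) (x y : Γ) : ι (c ι hcomm x y) = ⁅x, y⁆ :=
  Classical.choose_spec (comm_mem_range ι hcomm x y)

theorem central (hcent : ι.range = Subgroup.center Γ) (hcomm : commutator Γ ≤ ι.range)
    (x y g : Γ) : g * ⁅x, y⁆ = ⁅x, y⁆ * g := by
  have h := comm_mem_range ι hcomm x y
  rw [hcent, Subgroup.mem_center_iff] at h
  exact h g

theorem comm_mul_right (hcent : ι.range = Subgroup.center Γ) (hcomm : commutator Γ ≤ ι.range)
    (x y z : Γ) : ⁅x, y * z⁆ = ⁅x, y⁆ * ⁅x, z⁆ := by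
  have h := central ι hcent hcomm x z y⁻¹
  rw [commutatorElement_def x y, mul_assoc (x * y * x⁻¹), h]
  simp only [commutatorElement_def]
  group

theorem comm_mul_left (hcent : ι.range = Subgroup.center Γ) (hcomm : commutator Γ ≤ ι.range)
    (x x' y : Γ) : ⁅x * x', y⁆ = ⁅x, y⁆ * ⁅x', y⁆ := by
  have h := central ι hcent hcomm x' y (y * x⁻¹ * y⁻¹)
  have e : ⁅x, y⁆ * ⁅x', y⁆ = x * ((y * x⁻¹ * y⁻¹) * ⁅x', y⁆) := by
    simp only [commutatorElement_def]; group
  rw [e, h]
  simp only [commutatorElement_def]
  group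

/-- the pairing as a bihomomorphism -/
noncomputable def E (hι : Function.Injective ι) (hcent : ι.range = Subgroup.center Γ)
    (hcomm : commutator Γ ≤ ι.range) : Γ →* (Γ →* kˣ) :=
  MonoidHom.mk' (fun x => MonoidHom.mk' (fun y => c ι hcomm x y) (by
      intro y z
      apply hι
      rw [map_mul, ι_c, ι_c, ι_c, comm_mul_right ι hcent hcomm])) (by
    intro x x'
    ext y
    simp only [MonoidHom.mk'_apply, MonoidHom.mul_apply]
    congr 1
    apply hι
    rw [map_mul, ι_c, ι_c, ι_c, comm_mul_left ι hcent hcomm])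

theorem ι_E (hι : Function.Injective ι) (hcent : ι.range = Subgroup.center Γ)
    (hcomm : commutator Γ ≤ ι.range) (x y : Γ) : ι (E ι hι hcent hcomm x y) = ⁅x, y⁆ :=
  ι_c ι hcomm x y

theorem E_eq_one_iff (hι : Function.Injective ι) (hcent : ι.range = Subgroup.center Γ)
    (hcomm : commutator Γ ≤ ι.range) (x y : Γ) :
    E ι hι hcent hcomm x y = 1 ↔ x * y = y * x := by
  rw [← hι.eq_iff, ι_E, map_one, commutatorElement_eq_one_iff_mul_comm]

end Pairing

section Count
variable (k : Type u) [Field k]

theorem natCast_ne_zero_of_coprime (n : ℕ) (hn : n ≠ 0) (h : n.Coprime (ringExpChar k)) :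
    (n : k) ≠ 0 := by
  intro h0
  rw [ringChar.spec] at h0
  unfold ringExpChar at h
  rcases Nat.eq_zero_or_pos (ringChar k) with hz | hp
  · rw [hz] at h0
    exact hn (Nat.eq_zero_of_zero_dvd h0)
  · have hmax : max (ringChar k) 1 = ringChar k := max_eq_left hp
    rw [hmax] at h
    have h1 : ringChar k = 1 := Nat.Coprime.eq_one_of_dvd h.symm h0
    have : ((1 : ℕ) : k) = 0 := by rw [ringChar.spec, h1]
    simp at this

theorem card_char_trivial_on [IsSepClosed k] {G : Type u} [Group G] (N : Subgroup G) [N.Normal]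
    (hN : commutator G ≤ N) (hfin : N.index ≠ 0) (hcop : N.index.Coprime (ringExpChar k)) :
    Finite {ψ : G →* kˣ // N ≤ ψ.ker} ∧ Nat.card {ψ : G →* kˣ // N ≤ ψ.ker} = N.index := by
  letI : CommGroup (G ⧸ N) :=
    { (inferInstance : Group (G ⧸ N)) with
      mul_comm := by
        intro a b
        induction a using QuotientGroup.induction_on with
        | H a =>
        induction b using QuotientGroup.induction_on with
        | H b =>
        rw [← QuotientGroup.mk_mul, ← QuotientGroup.mk_mul, QuotientGroup.eq]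
        apply hN
        have : (a * b)⁻¹ * (b * a) = ⁅b⁻¹, a⁻¹⁆ := by
          rw [commutatorElement_def]; group
        rw [this]
        exact Subgroup.commutator_mem_commutator (Subgroup.mem_top _) (Subgroup.mem_top _) }
  haveI : Finite (G ⧸ N) := by
    apply Nat.finite_of_card_ne_zero
    rw [← Subgroup.index_eq_card]
    exact hfin
  have hdvd : Monoid.exponent (G ⧸ N) ∣ N.index := by
    rw [Subgroup.index_eq_card]
    exact Group.exponent_dvd_nat_card
  haveI : NeZero ((Monoid.exponent (G ⧸ N) : ℕ) : k) :=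
    ⟨natCast_ne_zero_of_coprime k _ (Monoid.exponent_ne_zero_of_finite)
      (Nat.Coprime.coprime_dvd_left hdvd hcop)⟩
  haveI : HasEnoughRootsOfUnity k (Monoid.exponent (G ⧸ N)) :=
    IsSepClosed.hasEnoughRootsOfUnity k _
  let e : {ψ : G →* kˣ // N ≤ ψ.ker} ≃ (G ⧸ N →* kˣ) :=
    { toFun := fun ψ => QuotientGroup.lift N ψ.1 ψ.2
      invFun := fun χ => ⟨χ.comp (QuotientGroup.mk' N), by
        intro x hx
        rw [MonoidHom.mem_ker, MonoidHom.comp_apply, QuotientGroup.mk'_apply,
          (QuotientGroup.eq_one_iff x).mpr hx, map_one]⟩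
      left_inv := by
        intro ψ
        apply Subtype.ext
        ext x
        simp
      right_inv := by
        intro χ
        apply MonoidHom.ext
        intro x
        induction x using QuotientGroup.induction_on with
        | H x => simp }
  obtain ⟨e2⟩ := CommGroup.monoidHom_mulEquiv_of_hasEnoughRootsOfUnity (G ⧸ N) k
  haveI : Finite (G ⧸ N →* kˣ) := Finite.of_equiv _ e2.symm.toEquiv
  refine ⟨Finite.of_equiv _ e.symm, ?_⟩
  rw [Nat.card_congr e, CommGroup.card_monoidHom_of_hasEnoughRootsOfUnity (G ⧸ N) k,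
    Subgroup.index_eq_card]

end Count

section Main
variable (k : Type u) [Field k] [IsAlgClosed k]
    (Γ : Type u) [Group Γ] (ι : kˣ →* Γ) (hι : Function.Injective ι)
    (hcent : ι.range = Subgroup.center Γ) (hcomm : commutator Γ ≤ ι.range)

include hι hcent hcomm in
theorem index_centralizer [Finite (Γ ⧸ ι.range)]
    (hcop : (Nat.card (Γ ⧸ ι.range)).Coprime (ringExpChar k))
    (H : Subgroup Γ) (hH : ι.range ≤ H) :
    (Subgroup.centralizer (H : Set Γ)).index = ι.range.relIndex H := by
  set C := Subgroup.centralizer (H : Set Γ) with hC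
  have hZC : ι.range ≤ C := by
    rw [hcent]; exact Subgroup.center_le_centralizer _
  haveI hZn : ι.range.Normal := by rw [hcent]; infer_instance
  haveI hCn : C.Normal := by
    constructor
    intro n hn g
    have : g * n * g⁻¹ = ⁅g, n⁆ * n := by rw [commutatorElement_def]; group
    rw [this]
    exact C.mul_mem (hZC (comm_mem_range ι hcomm g n)) hn
  have hZi : ι.range.index ≠ 0 := Subgroup.index_ne_zero_of_finite
  have hcopZ : ι.range.index.Coprime (ringExpChar k) := by
    rw [Subgroup.index_eq_card]; exact hcop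
  have hrel : ι.range.relIndex H * H.index = ι.range.index := Subgroup.relIndex_mul_index hH
  have hrel0 : ι.range.relIndex H ≠ 0 := fun h => hZi (by rw [← hrel, h, zero_mul])
  have hCi : C.index ∣ ι.range.index := Subgroup.index_dvd_of_le hZC
  have hC0 : C.index ≠ 0 := fun h => hZi (by rw [h] at hCi; exact Nat.eq_zero_of_zero_dvd hCi)
  -- characters of H trivial on ι.range
  have hcommH : commutator H ≤ ι.range.subgroupOf H := by
    unfold commutator
    rw [Subgroup.commutator_le]
    intro g₁ _ g₂ _
    rw [Subgroup.mem_subgroupOf]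
    have : ((⁅g₁, g₂⁆ : H) : Γ) = ⁅(g₁ : Γ), (g₂ : Γ)⁆ := by
      simp [commutatorElement_def]
    rw [this]
    exact comm_mem_range ι hcomm _ _
  obtain ⟨hfin1, hcard1⟩ := card_char_trivial_on k (ι.range.subgroupOf H) hcommH hrel0
    (Nat.Coprime.coprime_dvd_left ⟨H.index, hrel.symm⟩ hcopZ)
  obtain ⟨hfin2, hcard2⟩ := card_char_trivial_on k C (hcomm.trans hZC) hC0
    (Nat.Coprime.coprime_dvd_left hCi hcopZ)
  -- the two maps
  let EH : Γ →* (H →* kˣ) := (MonoidHom.compHom' H.subtype).comp (E ι hι hcent hcomm)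
  let FH : H →* (Γ →* kˣ) := (E ι hι hcent hcomm).flip.comp H.subtype
  have hEH : ∀ (x : Γ) (h : H), EH x h = E ι hι hcent hcomm x h := fun _ _ => rfl
  have hFH : ∀ (h : H) (x : Γ), FH h x = E ι hι hcent hcomm x h := fun _ _ => rfl
  have hkerE : EH.ker = C := by
    ext x
    rw [MonoidHom.mem_ker, hC, Subgroup.mem_centralizer_iff]
    constructor
    · intro hx h hh
      have := DFunLike.congr_fun hx ⟨h, hh⟩
      rw [hEH, MonoidHom.one_apply, E_eq_one_iff] at this
      exact this.symm
    · intro hx
      ext h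
      rw [hEH, MonoidHom.one_apply]
      congr 1
      rw [E_eq_one_iff]
      exact (hx h h.2).symm
  have hkerF : FH.ker = ι.range.subgroupOf H := by
    ext h
    rw [MonoidHom.mem_ker, Subgroup.mem_subgroupOf, hcent, Subgroup.mem_center_iff]
    constructor
    · intro hx g
      have := DFunLike.congr_fun hx g
      rw [hFH, MonoidHom.one_apply, E_eq_one_iff] at this
      exact this
    · intro hx
      ext g
      rw [hFH, MonoidHom.one_apply]
      congr 1
      rw [E_eq_one_iff]
      exact hx g
  -- first inequality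
  have h1 : C.index ≤ ι.range.relIndex H := by
    rw [← hkerE, Subgroup.index_ker, ← show (ι.range.subgroupOf H).index = ι.range.relIndex H from rfl, ← hcard1]
    let j : EH.range → {ψ : H →* kˣ // ι.range.subgroupOf H ≤ ψ.ker} := fun ψ => ⟨ψ.1, by
      obtain ⟨x, hx⟩ := ψ.2
      intro h hh
      rw [Subgroup.mem_subgroupOf, hcent, Subgroup.mem_center_iff] at hh
      rw [MonoidHom.mem_ker, ← hx, hEH, E_eq_one_iff]
      exact hh x⟩
    exact Nat.card_le_card_of_injective j (fun a b hab => Subtype.ext (by have h3 := congrArg Subtype.val hab; exact h3))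
  have h2 : ι.range.relIndex H ≤ C.index := by
    rw [← show (ι.range.subgroupOf H).index = ι.range.relIndex H from rfl, ← hkerF, Subgroup.index_ker, ← hcard2]
    let j : FH.range → {ψ : Γ →* kˣ // C ≤ ψ.ker} := fun ψ => ⟨ψ.1, by
      obtain ⟨h, hx⟩ := ψ.2
      intro x hxC
      rw [hC, Subgroup.mem_centralizer_iff] at hxC
      rw [MonoidHom.mem_ker, ← hx, hFH, E_eq_one_iff]
      exact (hxC h h.2).symm⟩
    exact Nat.card_le_card_of_injective j (fun a b hab => Subtype.ext (by have h3 := congrArg Subtype.val hab; exact h3))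
  exact le_antisymm h1 h2

theorem comm_iff_le_centralizer (H : Subgroup Γ) :
    IsMulCommutative H ↔ H ≤ Subgroup.centralizer (H : Set Γ) := by
  rw [isMulCommutative_iff]
  constructor
  · intro h x hx
    rw [Subgroup.mem_centralizer_iff]
    intro y hy
    have := h ⟨y, hy⟩ ⟨x, hx⟩
    exact congrArg Subtype.val this
  · intro h a b
    have := h b.2
    rw [Subgroup.mem_centralizer_iff] at this
    exact Subtype.ext (this a a.2)

include hι hcent hcomm in
theorem main [Finite (Γ ⧸ ι.range)]
    (hcop : (Nat.card (Γ ⧸ ι.range)).Coprime (ringExpChar k))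
    (H : Subgroup Γ) (hH : ι.range ≤ H) :
    List.TFAE [
      IsMulCommutative H ∧ ∀ H' : Subgroup Γ, IsMulCommutative H' → H ≤ H' → H' = H,
      IsMulCommutative H ∧ (ι.range.relIndex H) ^ 2 = ι.range.index,
      H = Subgroup.centralizer (H : Set Γ)] := by
  have hA := index_centralizer k Γ ι hι hcent hcomm hcop H hH
  have hZi : ι.range.index ≠ 0 := Subgroup.index_ne_zero_of_finite
  have hrel : ι.range.relIndex H * H.index = ι.range.index := Subgroup.relIndex_mul_index hH
  have hrel0 : ι.range.relIndex H ≠ 0 := fun h => hZi (by rw [← hrel, h, zero_mul])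
  have hZC : ι.range ≤ Subgroup.centralizer (H : Set Γ) := by
    rw [hcent]; exact Subgroup.center_le_centralizer _
  tfae_have 3 → 1 := by
    intro h
    have hc : IsMulCommutative H := (comm_iff_le_centralizer Γ H).mpr h.le
    refine ⟨hc, fun H' hH' hle => le_antisymm ?_ hle⟩
    intro x hx
    rw [h, Subgroup.mem_centralizer_iff]
    intro y hy
    have := (isMulCommutative_iff.mp hH') ⟨y, hle hy⟩ ⟨x, hx⟩
    exact congrArg Subtype.val this
  tfae_have 1 → 3 := by
    rintro ⟨hc, hmax⟩
    have hle : H ≤ Subgroup.centralizer (H : Set Γ) := (comm_iff_le_centralizer Γ H).mp hc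
    refine le_antisymm hle ?_
    intro x hx
    rw [Subgroup.mem_centralizer_iff] at hx
    -- the subgroup generated by H and x is commutative
    let S : Set Γ := (H : Set Γ) ∪ {x}
    have hS : ∀ a ∈ S, ∀ b ∈ S, a * b = b * a := by
      intro a ha b hb
      rcases ha with ha | ha <;> rcases hb with hb | hb
      · have := (isMulCommutative_iff.mp hc) ⟨a, ha⟩ ⟨b, hb⟩
        exact congrArg Subtype.val this
      · rw [Set.mem_singleton_iff] at hb; subst hb
        exact hx a ha
      · rw [Set.mem_singleton_iff] at ha; subst ha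
        exact (hx b hb).symm
      · rw [Set.mem_singleton_iff] at ha hb; subst ha; subst hb; rfl
    have hcl : IsMulCommutative (Subgroup.closure S) := Subgroup.isMulCommutative_closure hS
    have hHle : H ≤ Subgroup.closure S := fun y hy => Subgroup.subset_closure (Or.inl hy)
    have := hmax _ hcl hHle
    rw [← this]
    exact Subgroup.subset_closure (Or.inr rfl)
  tfae_have 3 → 2 := by
    intro h
    refine ⟨(comm_iff_le_centralizer Γ H).mpr h.le, ?_⟩
    rw [← h] at hA
    rw [sq, ← hrel, hA]
  tfae_have 2 → 3 := by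
    rintro ⟨hc, hsq⟩
    have hle : H ≤ Subgroup.centralizer (H : Set Γ) := (comm_iff_le_centralizer Γ H).mp hc
    refine le_antisymm hle ?_
    have h1 : ι.range.relIndex (Subgroup.centralizer (H : Set Γ)) *
        (Subgroup.centralizer (H : Set Γ)).index = ι.range.index := Subgroup.relIndex_mul_index hZC
    rw [hA, ← hsq, sq] at h1
    have h2 : ι.range.relIndex (Subgroup.centralizer (H : Set Γ)) = ι.range.relIndex H :=
      Nat.eq_of_mul_eq_mul_right (Nat.pos_of_ne_zero hrel0) h1
    have h3 : ι.range.relIndex H * H.relIndex (Subgroup.centralizer (H : Set Γ)) =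
        ι.range.relIndex (Subgroup.centralizer (H : Set Γ)) := Subgroup.relIndex_mul_relIndex _ _ _ hH hle
    rw [h2] at h3
    have h4 : H.relIndex (Subgroup.centralizer (H : Set Γ)) = 1 := by
      have : ι.range.relIndex H * H.relIndex (Subgroup.centralizer (H : Set Γ)) =
          ι.range.relIndex H * 1 := by rw [h3, mul_one]
      exact Nat.eq_of_mul_eq_mul_left (Nat.pos_of_ne_zero hrel0) this
    exact Subgroup.relIndex_eq_one.mp h4
  tfae_finish

end Main

end Groth.Agent.Lib.Helper5.Theta
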