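import Mathlib
import Groth.Agent.Lib.Helper5.Theta.A

set_option autoImplicit false
open scoped commutatorElement

namespace Groth.Agent.Lib.Helper5.Theta

universe u v

section Basic
variable {k : Type u} [Field k] {Γ : Type u} [Group Γ] (ι : kˣ →* Γ) (hι : Function.Injective ι)
    (hcent : ι.range = Subgroup.center Γ) (hcomm : commutator Γ ≤ ι.range)
    {V : Type v} [AddCommGroup V] [Module k V] (ρ : Representation k Γ V)

/-- weight one -/
def IsWt1 : Prop := ∀ (z : kˣ) (v : V), ρ (ι z) v = (z : k) • v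

variable {ι ρ}

theorem IsWt1.apply_ι (h1 : IsWt1 ι ρ) (z : kˣ) : ρ (ι z) = (z : k) • (1 : Module.End k V) := by
  ext v
  rw [h1 z v]
  rfl

theorem IsWt1.apply_ι_mul (h1 : IsWt1 ι ρ) (z : kˣ) (g : Γ) : ρ (ι z * g) = (z : k) • ρ g := by
  rw [map_mul, h1.apply_ι, smul_mul_assoc, one_mul]

include hι hcent hcomm in
theorem IsWt1.conj (h1 : IsWt1 ι ρ) (h g : Γ) :
    ρ h * ρ g * ρ h⁻¹ = ((E ι hι hcent hcomm h g : kˣ) : k) • ρ g := by
  rw [← map_mul, ← map_mul, ← h1.apply_ι_mul, ι_E, commutatorElement_def]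
  congr 1
  group

include hι hcent hcomm in
theorem IsWt1.conj' (h1 : IsWt1 ι ρ) (h g : Γ) :
    ρ h * ρ g = ((E ι hι hcent hcomm h g : kˣ) : k) • (ρ g * ρ h) := by
  have := h1.conj hι hcent hcomm h g
  have h2 : ρ h * ρ g = (ρ h * ρ g * ρ h⁻¹) * ρ h := by
    rw [mul_assoc, ← map_mul ρ h⁻¹ h, inv_mul_cancel, map_one, mul_one]
  rw [h2, this, smul_mul_assoc]

end Basic

section Indep
variable {k : Type u} [Field k] {Γ : Type u} [Group Γ] (ι : kˣ →* Γ) (hι : Function.Injective ι)
    (hcent : ι.range = Subgroup.center Γ) (hcomm : commutator Γ ≤ ι.range)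
    {V : Type v} [AddCommGroup V] [Module k V] (ρ : Representation k Γ V)

/-- a set-theoretic section of `Γ → Γ ⧸ ι.range` -/
noncomputable def sec (x : Γ ⧸ ι.range) : Γ := Quotient.out x

theorem mk_sec (x : Γ ⧸ ι.range) : (QuotientGroup.mk (sec ι x) : Γ ⧸ ι.range) = x :=
  QuotientGroup.out_eq' x

include hcent in
theorem exists_zpart (g : Γ) : ∃ z : kˣ, g = ι z * sec ι (QuotientGroup.mk g) := by
  have h : (QuotientGroup.mk (sec ι (QuotientGroup.mk g)) : Γ ⧸ ι.range) = QuotientGroup.mk g :=
    mk_sec ι _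
  rw [QuotientGroup.eq] at h
  obtain ⟨z, hz⟩ := h
  refine ⟨z, ?_⟩
  have hc : ι z ∈ Subgroup.center Γ := by rw [← hcent]; exact ⟨z, rfl⟩
  rw [Subgroup.mem_center_iff] at hc
  rw [← hc, hz]
  group

/-- the characters `h ↦ E h (sec x)` -/
noncomputable def ψ (x : Γ ⧸ ι.range) : Γ →* k :=
  (Units.coeHom k).comp ((E ι hι hcent hcomm).flip (sec ι x))

theorem ψ_apply (x : Γ ⧸ ι.range) (h : Γ) :
    ψ ι hι hcent hcomm x h = ((E ι hι hcent hcomm h (sec ι x) : kˣ) : k) := rfl

theorem ψ_injective : Function.Injective (ψ ι hι hcent hcomm) := by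
  intro x y hxy
  have h1 : ∀ h : Γ, E ι hι hcent hcomm h (sec ι x * (sec ι y)⁻¹) = 1 := by
    intro h
    have := DFunLike.congr_fun hxy h
    rw [ψ_apply, ψ_apply] at this
    have h2 : E ι hι hcent hcomm h (sec ι x) = E ι hι hcent hcomm h (sec ι y) := Units.ext this
    rw [map_mul, map_inv, h2, mul_inv_cancel]
  have h2 : sec ι x * (sec ι y)⁻¹ ∈ ι.range := by
    rw [hcent, Subgroup.mem_center_iff]
    intro h
    exact (E_eq_one_iff ι hι hcent hcomm h _).mp (h1 h)
  have h3 : (QuotientGroup.mk (sec ι y) : Γ ⧸ ι.range) = QuotientGroup.mk (sec ι x) := by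
    rw [QuotientGroup.eq]
    haveI : ι.range.Normal := by rw [hcent]; infer_instance
    have := Subgroup.Normal.conj_mem this _ h2 (sec ι y)⁻¹
    convert this using 1
    group
  rw [mk_sec, mk_sec] at h3
  exact h3.symm

variable {ι ρ}

include hι hcent hcomm in
theorem linearIndependent_sec [Nontrivial V] (h1 : IsWt1 ι ρ) :
    LinearIndependent k (fun x : Γ ⧸ ι.range => ρ (sec ι x)) := by
  classical
  have hψ : LinearIndependent k (fun x : Γ ⧸ ι.range => (ψ ι hι hcent hcomm x : Γ → k)) :=
    (linearIndependent_monoidHom Γ k).comp _ (ψ_injective ι hι hcent hcomm)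
  rw [linearIndependent_iff'] at hψ ⊢
  intro s a hsum x₀ hx₀
  obtain ⟨v, hv⟩ := exists_ne (0 : V)
  have hv' : ρ (sec ι x₀) v ≠ 0 := by
    intro h0
    apply hv
    have := congrArg (ρ (sec ι x₀)⁻¹) h0
    rwa [Representation.inv_self_apply, map_zero] at this
  obtain ⟨φ, hφ⟩ : ∃ φ : Module.Dual k V, φ (ρ (sec ι x₀) v) ≠ 0 := by
    by_contra hcon
    push Not at hcon
    exact hv' ((Module.forall_dual_apply_eq_zero_iff k _).mp hcon)
  have key : ∑ x ∈ s, (a x * φ (ρ (sec ι x) v)) • (ψ ι hι hcent hcomm x : Γ → k) = 0 := by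
    funext h
    have e1 : ρ h * (∑ x ∈ s, a x • ρ (sec ι x)) * ρ h⁻¹ = 0 := by rw [hsum, mul_zero, zero_mul]
    rw [Finset.mul_sum, Finset.sum_mul] at e1
    have e2 := congrArg (fun f : Module.End k V => φ (f v)) e1
    simp only [LinearMap.zero_apply, map_zero] at e2
    rw [LinearMap.sum_apply, map_sum] at e2
    rw [Finset.sum_apply, Pi.zero_apply, ← e2]
    apply Finset.sum_congr rfl
    intro x _
    rw [mul_smul_comm, smul_mul_assoc, h1.conj hι hcent hcomm h (sec ι x)]
    simp only [Pi.smul_apply, LinearMap.smul_apply, map_smul, smul_eq_mul, ψ_apply]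
    ring
  have := hψ s _ key x₀ hx₀
  rcases mul_eq_zero.mp this with h | h
  · exact h
  · exact absurd h hφ

end Indep


section Burnside
open scoped MonoidAlgebra

theorem semisimple_of_simple {R M : Type*} [Ring R] [AddCommGroup M] [Module R M]
    [IsSimpleModule R M] : IsSemisimpleModule R M := inferInstance

theorem burnside {k : Type u} {G : Type u} {V : Type v} [Field k] [IsAlgClosed k] [Monoid G]
    [AddCommGroup V] [Module k V] [FiniteDimensional k V] (ρ : Representation k G V)
    [hirr : ρ.IsIrreducible] (f : Module.End k V) :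
    ∃ r : k[G], ρ.asAlgebraHom r = f := by
  haveI h1 : IsSimpleModule k[G] ρ.asModule := inferInstance
  haveI h2 : IsSemisimpleModule k[G] ρ.asModule := semisimple_of_simple
  have hbij : Function.Bijective (algebraMap k (Module.End k[G] ρ.asModule)) :=
    IsSimpleModule.algebraMap_end_bijective_of_isAlgClosed k
  haveI : Module.Finite (Module.End k[G] ρ.asModule) ρ.asModule :=
    Module.Finite.of_restrictScalars_finite k _ _
  -- f as an End-linear map
  let f' : Module.End (Module.End k[G] ρ.asModule) ρ.asModule :=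
    { toFun := fun m => ρ.asModuleEquiv.symm (f (ρ.asModuleEquiv m))
      map_add' := by intro a b; simp
      map_smul' := by
        intro φ m
        obtain ⟨c, rfl⟩ := hbij.2 φ
        simp only [RingHom.id_apply]
        rw [algebraMap_smul, algebraMap_smul]
        simp }
  obtain ⟨r, hr⟩ := Module.Finite.toModuleEnd_moduleEnd_surjective (R := k[G]) (M := ρ.asModule) f'
  refine ⟨r, ?_⟩
  ext v
  have := LinearMap.congr_fun hr (ρ.asModuleEquiv.symm v)
  have h3 := congrArg ρ.asModuleEquiv this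
  rw [Module.toModuleEnd_apply, DistribSMul.toLinearMap_apply,
    Representation.asModuleEquiv_map_smul] at h3
  simpa [f'] using h3

end Burnside

section Span
open scoped MonoidAlgebra
variable {k : Type u} [Field k] {Γ : Type u} [Group Γ] {ι : kˣ →* Γ}
    (hcent : ι.range = Subgroup.center Γ)
    {V : Type v} [AddCommGroup V] [Module k V] {ρ : Representation k Γ V}

include hcent in
theorem apply_mem_span (h1 : IsWt1 ι ρ) (g : Γ) :
    ρ g ∈ Submodule.span k (Set.range (fun x : Γ ⧸ ι.range => ρ (sec ι x))) := by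
  obtain ⟨z, hz⟩ := exists_zpart ι hcent g
  rw [hz, h1.apply_ι_mul]
  exact Submodule.smul_mem _ _ (Submodule.subset_span ⟨_, rfl⟩)

include hcent in
theorem asAlgebraHom_mem_span (h1 : IsWt1 ι ρ) (r : k[Γ]) :
    ρ.asAlgebraHom r ∈ Submodule.span k (Set.range (fun x : Γ ⧸ ι.range => ρ (sec ι x))) := by
  induction r using MonoidAlgebra.induction_linear with
  | zero => rw [map_zero]; exact Submodule.zero_mem _
  | add x y hx hy => rw [map_add]; exact Submodule.add_mem _ hx hy
  | single g a =>
    rw [Representation.asAlgebraHom_single]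
    exact Submodule.smul_mem _ _ (apply_mem_span hcent h1 g)

include hcent in
theorem span_sec_eq_top [IsAlgClosed k] [FiniteDimensional k V] [ρ.IsIrreducible]
    (h1 : IsWt1 ι ρ) :
    Submodule.span k (Set.range (fun x : Γ ⧸ ι.range => ρ (sec ι x))) = ⊤ := by
  rw [eq_top_iff]
  intro f _
  obtain ⟨r, rfl⟩ := burnside ρ f
  exact asAlgebraHom_mem_span hcent h1 r

end Span

section Dim
variable {k : Type u} [Field k] [IsAlgClosed k] {Γ : Type u} [Group Γ] {ι : kˣ →* Γ}
    (hι : Function.Injective ι)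
    (hcent : ι.range = Subgroup.center Γ) (hcomm : commutator Γ ≤ ι.range)
    {V : Type v} [AddCommGroup V] [Module k V] [FiniteDimensional k V]
    {ρ : Representation k Γ V}

theorem nontrivial_of_irreducible [hirr : ρ.IsIrreducible] : Nontrivial V := by
  by_contra hV
  rw [not_nontrivial_iff_subsingleton] at hV
  have : (⊥ : Subrepresentation ρ) = ⊤ := by
    apply Subrepresentation.toSubmodule_injective
    exact Subsingleton.elim _ _
  exact bot_ne_top this

/-- the basis `ρ (sec x)` of `End V` -/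
noncomputable def endBasis [ρ.IsIrreducible] (h1 : IsWt1 ι ρ) :
    Module.Basis (Γ ⧸ ι.range) k (Module.End k V) :=
  haveI := nontrivial_of_irreducible (ρ := ρ)
  Module.Basis.mk (linearIndependent_sec hι hcent hcomm h1) (span_sec_eq_top hcent h1).ge

theorem endBasis_apply [ρ.IsIrreducible] (h1 : IsWt1 ι ρ) (x : Γ ⧸ ι.range) :
    endBasis hι hcent hcomm h1 x = ρ (sec ι x) := by
  unfold endBasis
  rw [Module.Basis.mk_apply]

include hι hcent hcomm in
theorem finrank_sq [ρ.IsIrreducible] (h1 : IsWt1 ι ρ) :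
    Module.finrank k V ^ 2 = Nat.card (Γ ⧸ ι.range) := by
  rw [← Module.finrank_eq_nat_card_basis (endBasis hι hcent hcomm h1),
    Module.finrank_linearMap, sq]

end Dim

end Groth.Agent.Lib.Helper5.Theta
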