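import Mathlib
import Groth.Agent.Lib.Helper5.Theta.B

set_option autoImplicit false
open scoped commutatorElement

namespace Groth.Agent.Lib.Helper5.Theta

universe u v w

section Uniq
variable {k : Type u} [Field k] [IsAlgClosed k] {Γ : Type u} [Group Γ] {ι : kˣ →* Γ}
    (hι : Function.Injective ι)
    (hcent : ι.range = Subgroup.center Γ) (hcomm : commutator Γ ≤ ι.range)
    {V : Type v} [AddCommGroup V] [Module k V] [FiniteDimensional k V]
    {ρ : Representation k Γ V}
    {W : Type w} [AddCommGroup W] [Module k W]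
    {σ : Representation k Γ W}

/-- the linear map `End V → End W` sending `ρ (sec x)` to `σ (sec x)` -/
noncomputable def θ [ρ.IsIrreducible] (h1 : IsWt1 ι ρ) (σ : Representation k Γ W) :
    Module.End k V →ₗ[k] Module.End k W :=
  (endBasis hι hcent hcomm h1).constr k (fun x => σ (sec ι x))

theorem θ_apply [ρ.IsIrreducible] (h1 : IsWt1 ι ρ) (h2 : IsWt1 ι σ) (g : Γ) :
    θ hι hcent hcomm h1 σ (ρ g) = σ g := by
  obtain ⟨z, hz⟩ := exists_zpart ι hcent g
  have e1 : ρ g = (z : k) • ρ (sec ι (QuotientGroup.mk g)) := by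
    conv_lhs => rw [hz]
    rw [h1.apply_ι_mul]
  have e2 : σ g = (z : k) • σ (sec ι (QuotientGroup.mk g)) := by
    conv_lhs => rw [hz]
    rw [h2.apply_ι_mul]
  rw [e1, e2, map_smul, ← endBasis_apply hι hcent hcomm h1, θ, Module.Basis.constr_basis]

theorem θ_one [ρ.IsIrreducible] (h1 : IsWt1 ι ρ) (h2 : IsWt1 ι σ) :
    θ hι hcent hcomm h1 σ 1 = 1 := by
  have := θ_apply hι hcent hcomm h1 h2 1
  rwa [map_one ρ, map_one σ] at this

theorem θ_mul [ρ.IsIrreducible] (h1 : IsWt1 ι ρ) (h2 : IsWt1 ι σ) (f f' : Module.End k V) :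
    θ hι hcent hcomm h1 σ (f * f') = θ hι hcent hcomm h1 σ f * θ hι hcent hcomm h1 σ f' := by
  have key : (LinearMap.mul k (Module.End k V)).compr₂ (θ hι hcent hcomm h1 σ) =
      (LinearMap.mul k (Module.End k W)).compl₁₂ (θ hι hcent hcomm h1 σ) (θ hι hcent hcomm h1 σ) := by
    apply (endBasis hι hcent hcomm h1).ext
    intro x
    apply (endBasis hι hcent hcomm h1).ext
    intro y
    simp only [LinearMap.compr₂_apply, LinearMap.mul_apply', LinearMap.compl₁₂_apply]
    rw [endBasis_apply, endBasis_apply, ← map_mul, θ_apply hι hcent hcomm h1 h2,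
      θ_apply hι hcent hcomm h1 h2, θ_apply hι hcent hcomm h1 h2, map_mul]
  have := LinearMap.congr_fun (LinearMap.congr_fun key f) f'
  simpa using this

/-- `θ` as an algebra hom -/
noncomputable def θAlg [ρ.IsIrreducible] (h1 : IsWt1 ι ρ) (h2 : IsWt1 ι σ) :
    Module.End k V →ₐ[k] Module.End k W :=
  AlgHom.ofLinearMap (θ hι hcent hcomm h1 σ) (θ_one hι hcent hcomm h1 h2)
    (θ_mul hι hcent hcomm h1 h2)

theorem θAlg_apply [ρ.IsIrreducible] (h1 : IsWt1 ι ρ) (h2 : IsWt1 ι σ) (g : Γ) :
    θAlg hι hcent hcomm h1 h2 (ρ g) = σ g := θ_apply hι hcent hcomm h1 h2 g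

include hι hcent hcomm in
theorem exists_equiv [FiniteDimensional k W] [ρ.IsIrreducible] [σ.IsIrreducible]
    (h1 : IsWt1 ι ρ) (h2 : IsWt1 ι σ) : Nonempty (Representation.Equiv ρ σ) := by
  let a := θAlg hι hcent hcomm h1 h2
  let b := θAlg hι hcent hcomm h2 h1
  have hab : ∀ f, b (a f) = f := by
    intro f
    have : (b.comp a).toLinearMap = LinearMap.id := by
      apply (endBasis hι hcent hcomm h1).ext
      intro x
      simp only [AlgHom.toLinearMap_apply, AlgHom.comp_apply, LinearMap.id_apply]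
      rw [endBasis_apply]
      show b (a (ρ _)) = _
      rw [θAlg_apply, θAlg_apply]
    exact LinearMap.congr_fun this f
  have hba : ∀ f, a (b f) = f := by
    intro f
    have : (a.comp b).toLinearMap = LinearMap.id := by
      apply (endBasis hι hcent hcomm h2).ext
      intro x
      simp only [AlgHom.toLinearMap_apply, AlgHom.comp_apply, LinearMap.id_apply]
      rw [endBasis_apply]
      show a (b (σ _)) = _
      rw [θAlg_apply, θAlg_apply]
    exact LinearMap.congr_fun this f
  let e : Module.End k V ≃ₐ[k] Module.End k W := AlgEquiv.ofAlgHom a b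
    (AlgHom.ext hba) (AlgHom.ext hab)
  obtain ⟨T, hT⟩ := e.eq_linearEquivConjAlgEquiv
  refine ⟨Representation.Equiv.mk T ?_⟩
  intro g
  have h3 : e (ρ g) = σ g := θAlg_apply hι hcent hcomm h1 h2 g
  rw [hT, LinearEquiv.conjAlgEquiv_apply] at h3
  rw [← h3]
  ext v
  simp

end Uniq

end Groth.Agent.Lib.Helper5.Theta
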