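import Mathlib
import Groth.Agent.Lib.Helper5.Theta.C

set_option autoImplicit false
open scoped commutatorElement

namespace Groth.Agent.Lib.Helper5.Theta

universe u v w
open scoped MonoidAlgebra

section Simple

theorem exists_simple_submodule {R M : Type*} [Ring R] [AddCommGroup M] [Module R M]
    [IsArtinian R M] [Nontrivial M] : ∃ S : Submodule R M, IsSimpleModule R S := by
  haveI : IsAtomic (Submodule R M) :=
    isAtomic_of_orderBot_wellFounded_lt wellFounded_lt
  obtain ⟨S, hS⟩ := IsAtomic.exists_atom (Submodule R M)
  exact ⟨S, isSimpleModule_iff_isAtom.mpr hS⟩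

end Simple

section Exist
variable {k : Type u} [Field k] {Γ : Type u} [Group Γ] (ι : kˣ →* Γ)

/-- right regular representation on functions -/
def rreg : Representation k Γ (Γ → k) where
  toFun h := LinearMap.funLeft k k (fun g => g * h)
  map_one' := by
    ext f g
    simp [LinearMap.funLeft_apply]
  map_mul' h₁ h₂ := by
    ext f g
    simp [LinearMap.funLeft_apply, mul_assoc]

theorem rreg_apply (h : Γ) (f : Γ → k) (g : Γ) : rreg (k := k) h f g = f (g * h) := rfl

/-- weight one functions -/
def wt1 : Submodule k (Γ → k) where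
  carrier := {f | ∀ (z : kˣ) (g : Γ), f (ι z * g) = (z : k) * f g}
  add_mem' := by
    intro a b ha hb z g
    simp only [Pi.add_apply, ha z g, hb z g, mul_add]
  zero_mem' := by
    intro z g
    simp
  smul_mem' := by
    intro c a ha z g
    simp only [Pi.smul_apply, smul_eq_mul, ha z g]
    ring

theorem mem_wt1 (f : Γ → k) : f ∈ wt1 ι ↔ ∀ (z : kˣ) (g : Γ), f (ι z * g) = (z : k) * f g :=
  Iff.rfl

theorem wt1_le_comap (h : Γ) : wt1 ι ≤ (wt1 ι).comap (rreg (k := k) h) := by
  intro f hf
  rw [Submodule.mem_comap, mem_wt1]
  intro z g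
  rw [rreg_apply, rreg_apply, mul_assoc, hf z (g * h)]

/-- the weight one regular representation -/
def wreg : Representation k Γ (wt1 ι) :=
  Representation.subrepresentation rreg (wt1 ι) (wt1_le_comap ι)

theorem wreg_apply (h : Γ) (f : wt1 ι) (g : Γ) : (wreg ι h f : Γ → k) g = (f : Γ → k) (g * h) := rfl

variable (hcent : ι.range = Subgroup.center Γ)

include hcent in
theorem wreg_isWt1 : IsWt1 ι (wreg ι) := by
  intro z f
  apply Subtype.ext
  funext g
  rw [wreg_apply]
  have hc : ι z ∈ Subgroup.center Γ := by rw [← hcent]; exact ⟨z, rfl⟩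
  rw [Subgroup.mem_center_iff] at hc
  rw [hc g, f.2 z g]
  rfl

include hcent in
theorem wt1_finite [Finite (Γ ⧸ ι.range)] : Module.Finite k (wt1 ι) := by
  let r : wt1 ι →ₗ[k] ((Γ ⧸ ι.range) → k) :=
    (LinearMap.funLeft k k (sec ι)).comp (wt1 ι).subtype
  have hr : Function.Injective r := by
    intro f f' hff
    apply Subtype.ext
    funext g
    obtain ⟨z, hz⟩ := exists_zpart ι hcent g
    rw [hz, f.2 z, f'.2 z]
    have := congrFun hff (QuotientGroup.mk g)
    simp only [r, LinearMap.comp_apply, LinearMap.funLeft_apply, Submodule.subtype_apply] at this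
    rw [this]
  exact Module.Finite.of_injective r hr

variable (hι : Function.Injective ι)

include hι in
theorem wt1_nontrivial : Nontrivial (wt1 ι) := by
  classical
  let f₀ : Γ → k := fun g => if h : g ∈ ι.range then ((Classical.choose h : kˣ) : k) else 0
  have hf₀ : f₀ ∈ wt1 ι := by
    intro z g
    by_cases hg : g ∈ ι.range
    · have hzg : ι z * g ∈ ι.range := ι.range.mul_mem ⟨z, rfl⟩ hg
      simp only [f₀, dif_pos hg, dif_pos hzg]
      have e1 := Classical.choose_spec hg
      have e2 := Classical.choose_spec hzg
      have : Classical.choose hzg = z * Classical.choose hg := by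
        apply hι
        rw [e2, map_mul, e1]
      rw [this, Units.val_mul]
    · have hzg : ι z * g ∉ ι.range := by
        intro h
        apply hg
        have := ι.range.mul_mem (ι.range.inv_mem ⟨z, rfl⟩) h
        rwa [inv_mul_cancel_left] at this
      simp only [f₀, dif_neg hg, dif_neg hzg, mul_zero]
  have h1 : f₀ 1 ≠ 0 := by
    have h : (1 : Γ) ∈ ι.range := ι.range.one_mem
    simp only [f₀, dif_pos h]
    exact Units.ne_zero _
  refine ⟨⟨⟨f₀, hf₀⟩, 0, ?_⟩⟩
  intro h
  apply h1
  have := congrArg (fun f : wt1 ι => (f : Γ → k) 1) h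
  simpa using this

end Exist

section ExistIrr
variable {k : Type u} [Field k] {Γ : Type u} [Group Γ] (ι : kˣ →* Γ)
  {V : Type u} [AddCommGroup V] [Module k V] (ρ : Representation k Γ V)

theorem finite_restrictScalars [Module.Finite k V] (S : Submodule k[Γ] ρ.asModule) :
    Module.Finite k (RestrictScalars k k[Γ] S) := by
  let j : RestrictScalars k k[Γ] S →ₗ[k] ρ.asModule :=
    { toFun := fun m => ((RestrictScalars.addEquiv k k[Γ] S m : S) : ρ.asModule)
      map_add' := by intro a b; simp
      map_smul' := by
        intro c m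
        simp only [RingHom.id_apply, RestrictScalars.addEquiv_map_smul, algebraMap_smul]
        rfl }
  have hj : Function.Injective j := by
    intro a b hab
    apply (RestrictScalars.addEquiv k k[Γ] S).injective
    exact Subtype.ext hab
  exact Module.Finite.of_injective j hj

set_option backward.isDefEq.respectTransparency false in
variable {ι ρ} in
theorem ofModule_isWt1 (h1 : IsWt1 ι ρ) (S : Submodule k[Γ] ρ.asModule) :
    IsWt1 ι (Representation.ofModule (k := k) (G := Γ) S) := by
  intro z m
  apply (RestrictScalars.addEquiv k k[Γ] S).injective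
  apply Subtype.ext
  have e1 : (Representation.ofModule (k := k) (G := Γ) S) (ι z) m =
      (RestrictScalars.addEquiv k k[Γ] S).symm
        ((MonoidAlgebra.of k Γ (ι z)) • (RestrictScalars.addEquiv k k[Γ] S m)) := by
    have := Representation.ofModule_asAlgebraHom_apply_apply (k := k) (G := Γ) S
      (MonoidAlgebra.of k Γ (ι z)) m
    rwa [Representation.asAlgebraHom_of] at this
  rw [e1, AddEquiv.apply_symm_apply, RestrictScalars.addEquiv_map_smul, Submodule.coe_smul,
    Submodule.coe_smul, algebraMap_smul]
  rw [MonoidAlgebra.of_apply, Representation.single_smul, one_smul]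
  exact h1 z _

theorem exists_simple_asModule [Module.Finite k V] [Nontrivial V] :
    ∃ S : Submodule k[Γ] ρ.asModule, IsSimpleModule k[Γ] S := by
  haveI : Nontrivial ρ.asModule := ‹Nontrivial V›
  haveI : IsArtinian k ρ.asModule := inferInstance
  haveI : IsArtinian k[Γ] ρ.asModule := isArtinian_of_tower k inferInstance
  exact exists_simple_submodule (R := k[Γ]) (M := ρ.asModule)

end ExistIrr

end Groth.Agent.Lib.Helper5.Theta
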