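import Mathlib
import Groth.Agent.Lib.Helper5.Theta.D

set_option autoImplicit false

namespace Groth.Agent.Lib.Helper5.Theta

universe u
open scoped MonoidAlgebra
open CategoryTheory

set_option backward.isDefEq.respectTransparency false in
theorem exists_irr (k : Type u) [Field k]
    (Γ : Type u) [Group Γ] (ι : kˣ →* Γ) (hι : Function.Injective ι)
    (hcent : ι.range = Subgroup.center Γ) [Finite (Γ ⧸ ι.range)] :
    ∃ V : FDRep k Γ, Representation.IsIrreducible V.ρ ∧
      ∀ (z : kˣ) (v : V), V.ρ (ι z) v = (z : k) • v := by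
  haveI := wt1_finite ι hcent
  haveI := wt1_nontrivial ι hι
  obtain ⟨S, hS⟩ := exists_simple_asModule (wreg ι)
  haveI : Module.Finite k (RestrictScalars k k[Γ] S) := finite_restrictScalars (wreg ι) S
  refine ⟨FDRep.of (Representation.ofModule (k := k) (G := Γ) S), ?_, ?_⟩
  · exact (Representation.isSimpleModule_iff_irreducible_ofModule S).mp hS
  · exact ofModule_isWt1 (wreg_isWt1 ι hcent) S

theorem main17506 (k : Type u) [Field k] [IsAlgClosed k]
    (Γ : Type u) [Group Γ] (ι : kˣ →* Γ) (hι : Function.Injective ι)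
    (hcent : ι.range = Subgroup.center Γ) (hcomm : commutator Γ ≤ ι.range)
    [Finite (Γ ⧸ ι.range)] :
    (∃ V : FDRep k Γ, Representation.IsIrreducible V.ρ ∧ ∀ (z : kˣ) (v : V), V.ρ (ι z) v = (z : k) • v) ∧
    (∀ V W : FDRep k Γ, Representation.IsIrreducible V.ρ → Representation.IsIrreducible W.ρ →
      (∀ (z : kˣ) (v : V), V.ρ (ι z) v = (z : k) • v) → (∀ (z : kˣ) (w : W), W.ρ (ι z) w = (z : k) • w) →
      Nonempty (Representation.Equiv V.ρ W.ρ)) ∧
    (∀ V : FDRep k Γ, Representation.IsIrreducible V.ρ → (∀ (z : kˣ) (v : V), V.ρ (ι z) v = (z : k) • v) →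
      Module.finrank k V ^ 2 = Nat.card (Γ ⧸ ι.range)) := by
  refine ⟨exists_irr k Γ ι hι hcent, ?_, ?_⟩
  · intro V W hV hW h1 h2
    exact exists_equiv hι hcent hcomm (ρ := V.ρ) (σ := W.ρ) h1 h2
  · intro V hV h1
    exact finrank_sq hι hcent hcomm (ρ := V.ρ) h1

end Groth.Agent.Lib.Helper5.Theta
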