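import Mathlib
import Groth.Agent.Lib.Helper5.Theta.E

set_option autoImplicit false
open scoped commutatorElement

namespace Groth.Agent.Lib.Helper5.Theta

universe u v w

theorem finrank_eq_sum_range {k : Type*} {W : Type*} [Field k] [AddCommGroup W] [Module k W]
    [FiniteDimensional k W] {ι : Type*} [Fintype ι] (P : ι → Module.End k W)
    (horth : ∀ i j, i ≠ j → P i * P j = 0) (hsum : ∑ i, P i = 1) :
    Module.finrank k W = ∑ i, Module.finrank k (LinearMap.range (P i)) := by
  classical
  have hidem : ∀ i, P i * P i = P i := by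
    intro i
    have h1 : P i * ∑ j, P j = P i := by rw [hsum, mul_one]
    rw [Finset.mul_sum, Finset.sum_eq_single i] at h1
    · exact h1
    · intro j _ hj
      exact horth i j (Ne.symm hj)
    · intro h; exact absurd (Finset.mem_univ i) h
  let e : W ≃ₗ[k] (∀ i, LinearMap.range (P i)) :=
    { toFun := fun w i => ⟨P i w, LinearMap.mem_range_self _ _⟩
      map_add' := by
        intro a b
        funext i
        apply Subtype.ext
        simp
      map_smul' := by
        intro c a
        funext i
        apply Subtype.ext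
        simp
      invFun := fun f => ∑ i, (f i : W)
      left_inv := by
        intro w
        show ∑ i, P i w = w
        rw [← LinearMap.sum_apply, hsum]
        rfl
      right_inv := by
        intro f
        funext j
        apply Subtype.ext
        show P j (∑ i, (f i : W)) = f j
        rw [map_sum, Finset.sum_eq_single j]
        · obtain ⟨w, hw⟩ := (f j).2
          rw [← hw, ← Module.End.mul_apply, hidem]
        · intro i _ hi
          obtain ⟨w, hw⟩ := (f i).2
          rw [← hw, ← Module.End.mul_apply, horth j i (Ne.symm hi)]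
          rfl
        · intro h; exact absurd (Finset.mem_univ j) h }
  rw [LinearEquiv.finrank_eq e, Module.finrank_pi_fintype]

section Fourier
variable {k : Type u} [Field k] {Γ : Type u} [Group Γ] {ι : kˣ →* Γ}
    (hι : Function.Injective ι) (hcent : ι.range = Subgroup.center Γ)
    (hcomm : commutator Γ ≤ ι.range)
    {W : Type w} [AddCommGroup W] [Module k W] (σ : Representation k Γ W)
    (H : Subgroup Γ) [Fintype H]

/-- twisted averaging operators -/
noncomputable def P (g : Γ) : Module.End k W :=
  ((Fintype.card H : k))⁻¹ • ∑ h : H, ((E ι hι hcent hcomm g h : kˣ) : k) • σ h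

variable {σ}

theorem P_conj (h2 : IsWt1 ι σ) (g : Γ) :
    P hι hcent hcomm σ H g = σ g * P hι hcent hcomm σ H 1 * σ g⁻¹ := by
  unfold P
  rw [mul_smul_comm, smul_mul_assoc, Finset.mul_sum, Finset.sum_mul]
  congr 1
  apply Finset.sum_congr rfl
  intro h _
  rw [map_one, MonoidHom.one_apply, Units.val_one, one_smul, h2.conj hι hcent hcomm]

theorem P_orth (g g' : Γ) (hne : ∃ h₀ : H, E ι hι hcent hcomm g h₀ ≠ E ι hι hcent hcomm g' h₀) :
    P hι hcent hcomm σ H g * P hι hcent hcomm σ H g' = 0 := by
  classical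
  let χ : H →* k := (Units.coeHom k).comp
    ((E ι hι hcent hcomm g * (E ι hι hcent hcomm g')⁻¹).comp H.subtype)
  have hχ : χ ≠ 1 := by
    obtain ⟨h₀, hh₀⟩ := hne
    intro h
    apply hh₀
    have := DFunLike.congr_fun h h₀
    simp only [χ, MonoidHom.comp_apply, Subgroup.coe_subtype, MonoidHom.mul_apply,
      MonoidHom.inv_apply, Units.coeHom_apply, MonoidHom.one_apply] at this
    have h3 : E ι hι hcent hcomm g h₀ * (E ι hι hcent hcomm g' h₀)⁻¹ = 1 := Units.ext this
    exact mul_inv_eq_one.mp h3
  have hsum := sum_hom_units_eq_zero χ hχ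
  unfold P
  rw [smul_mul_smul_comm, Finset.sum_mul]
  have key : ∑ h : H, (((E ι hι hcent hcomm g h : kˣ) : k) • σ h) *
      ∑ h' : H, ((E ι hι hcent hcomm g' h' : kˣ) : k) • σ h' = 0 := by
    have e1 : ∀ h : H, (((E ι hι hcent hcomm g h : kˣ) : k) • σ h) *
        ∑ h' : H, ((E ι hι hcent hcomm g' h' : kˣ) : k) • σ h' =
        ∑ h'' : H, (χ h * ((E ι hι hcent hcomm g' h'' : kˣ) : k)) • σ h'' := by
      intro h
      rw [Finset.mul_sum]
      rw [← Equiv.sum_comp (Equiv.mulLeft h⁻¹)]
      apply Finset.sum_congr rfl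
      intro h'' _
      rw [smul_mul_smul_comm, ← map_mul]
      simp only [Equiv.coe_mulLeft, Subgroup.coe_mul, χ, MonoidHom.comp_apply,
        Subgroup.coe_subtype, MonoidHom.mul_apply, MonoidHom.inv_apply, Units.coeHom_apply,
        InvMemClass.coe_inv, mul_inv_cancel_left, map_mul, map_inv, Units.val_mul,
        Units.val_inv_eq_inv_val]
      congr 1
      ring
    rw [Finset.sum_congr rfl (fun h _ => e1 h), Finset.sum_comm]
    apply Finset.sum_eq_zero
    intro h'' _
    rw [← Finset.sum_smul, ← Finset.sum_mul, hsum, zero_mul, zero_smul]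
  rw [key, smul_zero]

theorem P_sum (C : Subgroup Γ) [C.Normal] [Fintype (Γ ⧸ C)]
    (hC1 : ∀ g ∈ C, ∀ h : H, E ι hι hcent hcomm g h = 1)
    (hC2 : ∀ h : H, h ≠ 1 → ∃ g, E ι hι hcent hcomm g h ≠ 1)
    (hcard : Fintype.card (Γ ⧸ C) = Fintype.card H) (hne : (Fintype.card H : k) ≠ 0) :
    ∑ q : Γ ⧸ C, P hι hcent hcomm σ H (Quotient.out q) = 1 := by
  classical
  unfold P
  rw [← Finset.smul_sum, Finset.sum_comm]
  have key : ∀ h : H, ∑ q : Γ ⧸ C, ((E ι hι hcent hcomm (Quotient.out q) h : kˣ) : k) • σ h =
      if h = 1 then (Fintype.card H : k) • (1 : Module.End k W) else 0 := by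
    intro h
    let φ : Γ ⧸ C →* k := (Units.coeHom k).comp
      (QuotientGroup.lift C ((E ι hι hcent hcomm).flip h) (fun g hg => hC1 g hg h))
    have hφ : ∀ q : Γ ⧸ C, φ q = ((E ι hι hcent hcomm (Quotient.out q) h : kˣ) : k) := by
      intro q
      conv_lhs => rw [← QuotientGroup.out_eq' q]
      rfl
    rw [← Finset.sum_smul]
    rw [← Finset.sum_congr rfl (fun q _ => hφ q)]
    split_ifs with h1
    · subst h1
      have : ∀ q : Γ ⧸ C, φ q = 1 := by
        intro q
        rw [hφ]
        simp
      rw [Finset.sum_congr rfl (fun q _ => this q)]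
      simp [hcard]
    · have hφ1 : φ ≠ 1 := by
        obtain ⟨g, hg⟩ := hC2 h h1
        intro h0
        apply hg
        have := DFunLike.congr_fun h0 (QuotientGroup.mk g)
        simp only [φ, MonoidHom.comp_apply, QuotientGroup.lift_mk, MonoidHom.flip_apply,
          Units.coeHom_apply, MonoidHom.one_apply] at this
        exact Units.ext this
      rw [sum_hom_units_eq_zero φ hφ1, zero_smul]
  rw [Finset.sum_congr rfl (fun h _ => key h), Finset.sum_ite_eq' Finset.univ (1 : H)]
  simp only [Finset.mem_univ, if_true]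
  rw [smul_smul, inv_mul_cancel₀ hne, one_smul]

theorem P_one_apply (w : W) :
    P hι hcent hcomm σ H 1 w = ((Fintype.card H : k))⁻¹ • ∑ h : H, σ h w := by
  unfold P
  rw [LinearMap.smul_apply, LinearMap.sum_apply]
  congr 1
  apply Finset.sum_congr rfl
  intro h _
  rw [map_one, MonoidHom.one_apply, Units.val_one, one_smul]

theorem range_P_one (hne : (Fintype.card H : k) ≠ 0) :
    LinearMap.range (P hι hcent hcomm σ H 1) = Representation.invariants (σ.comp H.subtype) := by
  apply le_antisymm
  · rintro _ ⟨w', rfl⟩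
    rw [Representation.mem_invariants]
    intro h₀
    rw [P_one_apply, map_smul, map_sum]
    congr 1
    rw [← Equiv.sum_comp (Equiv.mulLeft h₀) (fun h : H => σ h w')]
    apply Finset.sum_congr rfl
    intro h _
    simp only [MonoidHom.comp_apply, Subgroup.coe_subtype, Equiv.coe_mulLeft, Subgroup.coe_mul,
      map_mul, Module.End.mul_apply]
  · intro w hw
    rw [Representation.mem_invariants] at hw
    refine ⟨w, ?_⟩
    rw [P_one_apply]
    have : ∀ h : H, σ h w = w := fun h => hw h
    rw [Finset.sum_congr rfl (fun h _ => this h), Finset.sum_const, Finset.card_univ,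
      ← Nat.cast_smul_eq_nsmul k, smul_smul, inv_mul_cancel₀ hne, one_smul]

theorem finrank_range_P [FiniteDimensional k W] (h2 : IsWt1 ι σ) (g : Γ) :
    Module.finrank k (LinearMap.range (P hι hcent hcomm σ H g)) =
      Module.finrank k (LinearMap.range (P hι hcent hcomm σ H 1)) := by
  let e : W ≃ₗ[k] W := LinearEquiv.ofBijective (σ g) (σ.apply_bijective g)
  have h3 : LinearMap.range (P hι hcent hcomm σ H g) =
      (LinearMap.range (P hι hcent hcomm σ H 1)).map (e : W →ₗ[k] W) := by
    rw [P_conj hι hcent hcomm H h2 g, mul_assoc]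
    rw [Module.End.mul_eq_comp, LinearMap.range_comp, Module.End.mul_eq_comp,
      LinearMap.range_comp_of_range_eq_top]
    · rfl
    · exact LinearMap.range_eq_top.mpr (σ.apply_bijective g⁻¹).2
  rw [h3]
  exact LinearEquiv.finrank_map_eq e _

include hι hcent hcomm in
theorem finrank_eq_card_mul_invariants [FiniteDimensional k W] (h2 : IsWt1 ι σ)
    (C : Subgroup Γ) [C.Normal] [Fintype (Γ ⧸ C)]
    (hC1 : ∀ g ∈ C, ∀ h : H, E ι hι hcent hcomm g h = 1)
    (hC2 : ∀ h : H, h ≠ 1 → ∃ g, E ι hι hcent hcomm g h ≠ 1)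
    (hC3 : ∀ g g' : Γ, (QuotientGroup.mk g : Γ ⧸ C) ≠ QuotientGroup.mk g' →
      ∃ h₀ : H, E ι hι hcent hcomm g h₀ ≠ E ι hι hcent hcomm g' h₀)
    (hcard : Fintype.card (Γ ⧸ C) = Fintype.card H) (hne : (Fintype.card H : k) ≠ 0) :
    Module.finrank k W =
      Fintype.card H * Module.finrank k (Representation.invariants (σ.comp H.subtype)) := by
  rw [finrank_eq_sum_range (fun q : Γ ⧸ C => P hι hcent hcomm σ H (Quotient.out q)) ?_
    (P_sum hι hcent hcomm H C hC1 hC2 hcard hne)]
  · have e1 : ∀ q : Γ ⧸ C, Module.finrank k (LinearMap.range (P hι hcent hcomm σ H (Quotient.out q))) =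
        Module.finrank k (LinearMap.range (P hι hcent hcomm σ H 1)) :=
      fun q => finrank_range_P hι hcent hcomm H h2 (Quotient.out q)
    rw [Finset.sum_congr rfl (fun q _ => e1 q),
      Finset.sum_const, Finset.card_univ, hcard, range_P_one hι hcent hcomm H hne, smul_eq_mul]
  · intro q q' hqq
    apply P_orth
    apply hC3
    rw [QuotientGroup.out_eq', QuotientGroup.out_eq']
    exact hqq

end Fourier

end Groth.Agent.Lib.Helper5.Theta
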