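import Mathlib
import Groth.Agent.Lib.Helper5.Theta.F

set_option autoImplicit false
open scoped commutatorElement

namespace Groth.Agent.Lib.Helper5.Theta

universe u v w

section Level
variable {k : Type u} [Field k] {Γ : Type u} [Group Γ] {ι : kˣ →* Γ}
    (hι : Function.Injective ι) (hcent : ι.range = Subgroup.center Γ)
    (hcomm : commutator Γ ≤ ι.range)
    (H : Subgroup Γ) (hH : H ⊓ ι.range = ⊥)

include hcent in
theorem range_normal : ι.range.Normal := by rw [hcent]; infer_instance

include hH in
theorem level_finite [Finite (Γ ⧸ ι.range)] : Finite H := by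
  let f : H → Γ ⧸ ι.range := fun h => QuotientGroup.mk (h : Γ)
  have hf : Function.Injective f := by
    intro a b hab
    simp only [f] at hab
    rw [QuotientGroup.eq] at hab
    have h1 : (a : Γ)⁻¹ * b ∈ H ⊓ ι.range := ⟨H.mul_mem (H.inv_mem a.2) b.2, hab⟩
    rw [hH, Subgroup.mem_bot] at h1
    apply Subtype.ext
    exact inv_mul_eq_one.mp h1
  exact Finite.of_injective f hf

include hcent in
theorem mem_centralizer_sup (g : Γ) (hg : ∀ h ∈ H, g * h = h * g) :
    g ∈ Subgroup.centralizer ((H ⊔ ι.range : Subgroup Γ) : Set Γ) := by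
  have h1 : H ≤ Subgroup.centralizer {g} := by
    intro h hh
    rw [Subgroup.mem_centralizer_iff]
    intro x hx
    rw [Set.mem_singleton_iff] at hx
    subst hx
    exact hg h hh
  have h2 : ι.range ≤ Subgroup.centralizer {g} := by
    rw [hcent]
    exact Subgroup.center_le_centralizer _
  have h3 : H ⊔ ι.range ≤ Subgroup.centralizer {g} := sup_le h1 h2
  rw [Subgroup.mem_centralizer_iff]
  intro m hm
  have := h3 hm
  rw [Subgroup.mem_centralizer_iff] at this
  exact (this g rfl).symm

include hcent hH in
theorem relIndex_level : ι.range.relIndex (H ⊔ ι.range) = Nat.card H := by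
  haveI := range_normal hcent
  rw [Subgroup.relIndex_sup_right, ← Subgroup.inf_relIndex_left, hH, Subgroup.relIndex_bot_left]

include hι hcent hcomm in
theorem centralizer_normal (M : Subgroup Γ) : (Subgroup.centralizer (M : Set Γ)).Normal := by
  have hZC : ι.range ≤ Subgroup.centralizer (M : Set Γ) := by
    rw [hcent]; exact Subgroup.center_le_centralizer _
  constructor
  intro n hn g
  have : g * n * g⁻¹ = ⁅g, n⁆ * n := by rw [commutatorElement_def]; group
  rw [this]
  exact (Subgroup.centralizer (M : Set Γ)).mul_mem (hZC (comm_mem_range ι hcomm g n)) hn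

include hι hcent hcomm hH in
theorem index_centralizer_level [IsAlgClosed k] [Finite (Γ ⧸ ι.range)]
    (hcop : (Nat.card (Γ ⧸ ι.range)).Coprime (ringExpChar k)) :
    (Subgroup.centralizer ((H ⊔ ι.range : Subgroup Γ) : Set Γ)).index = Nat.card H := by
  rw [index_centralizer k Γ ι hι hcent hcomm hcop (H ⊔ ι.range) le_sup_right,
    relIndex_level hcent H hH]

include hcent hH in
theorem card_level_dvd [Finite (Γ ⧸ ι.range)] : Nat.card H ∣ Nat.card (Γ ⧸ ι.range) := by
  rw [← relIndex_level hcent H hH, ← Subgroup.index_eq_card]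
  exact Subgroup.relIndex_dvd_index_of_le le_sup_right

include hcent hH in
theorem card_level_ne_zero [Finite (Γ ⧸ ι.range)]
    (hcop : (Nat.card (Γ ⧸ ι.range)).Coprime (ringExpChar k)) : (Nat.card H : k) ≠ 0 := by
  haveI := level_finite H hH
  apply natCast_ne_zero_of_coprime k _ Nat.card_pos.ne'
  exact Nat.Coprime.coprime_dvd_left (card_level_dvd hcent H hH) hcop

include hι hcent hcomm hH in
/-- the dimension formula for a level subgroup -/
theorem finrank_eq_card_level_mul [IsAlgClosed k] [Finite (Γ ⧸ ι.range)]
    (hcop : (Nat.card (Γ ⧸ ι.range)).Coprime (ringExpChar k))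
    {W : Type w} [AddCommGroup W] [Module k W] [FiniteDimensional k W]
    {σ : Representation k Γ W} (h2 : IsWt1 ι σ) :
    Module.finrank k W =
      Nat.card H * Module.finrank k (Representation.invariants (σ.comp H.subtype)) := by
  classical
  haveI := level_finite H hH
  letI : Fintype H := Fintype.ofFinite H
  haveI := range_normal hcent
  haveI hCn := centralizer_normal hι hcent hcomm (H ⊔ ι.range)
  have hZC : ι.range ≤ Subgroup.centralizer ((H ⊔ ι.range : Subgroup Γ) : Set Γ) := by
    rw [hcent]; exact Subgroup.center_le_centralizer _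
  haveI : Finite (Γ ⧸ Subgroup.centralizer ((H ⊔ ι.range : Subgroup Γ) : Set Γ)) := by
    apply Nat.finite_of_card_ne_zero
    rw [← Subgroup.index_eq_card, index_centralizer_level hι hcent hcomm H hH hcop]
    exact Nat.card_pos.ne'
  letI : Fintype (Γ ⧸ Subgroup.centralizer ((H ⊔ ι.range : Subgroup Γ) : Set Γ)) :=
    Fintype.ofFinite _
  rw [Nat.card_eq_fintype_card]
  apply finrank_eq_card_mul_invariants hι hcent hcomm H h2
    (Subgroup.centralizer ((H ⊔ ι.range : Subgroup Γ) : Set Γ))
  · intro g hg h
    rw [E_eq_one_iff]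
    rw [Subgroup.mem_centralizer_iff] at hg
    exact (hg h (le_sup_left (a := H) h.2)).symm
  · intro h hh1
    by_contra hcon
    push Not at hcon
    apply hh1
    have h4 : (h : Γ) ∈ ι.range := by
      rw [hcent, Subgroup.mem_center_iff]
      intro g
      exact (E_eq_one_iff ι hι hcent hcomm g h).mp (hcon g)
    have h3 : (h : Γ) ∈ H ⊓ ι.range := ⟨h.2, h4⟩
    rw [hH, Subgroup.mem_bot] at h3
    exact Subtype.ext h3
  · intro g g' hgg
    by_contra hcon
    push Not at hcon
    apply hgg
    rw [QuotientGroup.eq]
    apply mem_centralizer_sup hcent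
    intro h hh
    rw [← E_eq_one_iff ι hι hcent hcomm, map_mul, MonoidHom.mul_apply, map_inv,
      MonoidHom.inv_apply, hcon ⟨h, hh⟩]
    simp
  · rw [← Nat.card_eq_fintype_card, ← Nat.card_eq_fintype_card, ← Subgroup.index_eq_card,
      index_centralizer_level hι hcent hcomm H hH hcop]
  · rw [← Nat.card_eq_fintype_card]
    exact card_level_ne_zero hcent H hH hcop

end Level

end Groth.Agent.Lib.Helper5.Theta
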