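import Mathlib
import Groth.Agent.Lib.Helper5.Theta.G

set_option autoImplicit false
open scoped commutatorElement

namespace Groth.Agent.Lib.Helper5.Theta

universe u v w

section Lagr
variable {k : Type u} [Field k] {Γ : Type u} [Group Γ] {ι : kˣ →* Γ}
    (hι : Function.Injective ι) (hcent : ι.range = Subgroup.center Γ)
    (hcomm : commutator Γ ≤ ι.range)
    (H : Subgroup Γ) (hH : H ⊓ ι.range = ⊥)

include hcent hcomm in
theorem sup_range_normal : (H ⊔ ι.range).Normal := by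
  constructor
  intro n hn g
  have : g * n * g⁻¹ = ⁅g, n⁆ * n := by rw [commutatorElement_def]; group
  rw [this]
  exact (H ⊔ ι.range).mul_mem (le_sup_right (a := H) (comm_mem_range ι hcomm g n)) hn

include hcent in
theorem ι_central (z : kˣ) (g : Γ) : g * ι z = ι z * g := by
  have hc : ι z ∈ Subgroup.center Γ := by rw [← hcent]; exact ⟨z, rfl⟩
  rw [Subgroup.mem_center_iff] at hc
  exact hc g

include hcent hcomm hH in
theorem exists_level_extension [IsAlgClosed k] [Finite (Γ ⧸ ι.range)] (g : Γ)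
    (hg : ∀ h ∈ H, g * h = h * g) (hgM : g ∉ H ⊔ ι.range) :
    ∃ H' : Subgroup Γ, H' ⊓ ι.range = ⊥ ∧ H ≤ H' ∧ H' ≠ H := by
  haveI := range_normal hcent
  haveI hMn := sup_range_normal hcent hcomm H
  haveI : Finite (Γ ⧸ (H ⊔ ι.range)) := by
    apply Nat.finite_of_card_ne_zero
    rw [← Subgroup.index_eq_card]
    have h1 : (H ⊔ ι.range).index ∣ ι.range.index := Subgroup.index_dvd_of_le le_sup_right
    have h2 : ι.range.index ≠ 0 := Subgroup.index_ne_zero_of_finite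
    intro h0
    rw [h0] at h1
    exact h2 (Nat.eq_zero_of_zero_dvd h1)
  set m := orderOf (QuotientGroup.mk g : Γ ⧸ (H ⊔ ι.range)) with hm
  have hmpos : 0 < m := orderOf_pos _
  have hgm : g ^ m ∈ H ⊔ ι.range := by
    rw [← QuotientGroup.eq_one_iff, QuotientGroup.mk_pow, hm, pow_orderOf_eq_one]
  obtain ⟨h, hh, c, ⟨z, rfl⟩, hhc⟩ := Subgroup.mem_sup_of_normal_right.mp hgm
  obtain ⟨w, hw⟩ := IsAlgClosed.exists_pow_nat_eq (z : k) hmpos
  have hw0 : w ≠ 0 := by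
    intro h0
    rw [h0, zero_pow hmpos.ne'] at hw
    exact z.ne_zero hw.symm
  set w' : kˣ := Units.mk0 w hw0 with hw'
  have hwm : w' ^ m = z := by
    apply Units.ext
    rw [Units.val_pow_eq_pow_val, hw', Units.val_mk0, hw]
  set g' := g * (ι w')⁻¹ with hg'
  have hcomm' : ∀ h ∈ H, Commute g' h := by
    intro h₁ hh₁
    show g' * h₁ = h₁ * g'
    rw [hg', mul_assoc, ← map_inv, ← ι_central hcent, ← mul_assoc, hg h₁ hh₁, mul_assoc]
  have hg'm : g' ^ m = h := by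
    have hc : Commute g (ι w')⁻¹ := by
      show g * (ι w')⁻¹ = (ι w')⁻¹ * g
      rw [← map_inv, ι_central hcent]
    rw [hg', hc.mul_pow, ← hhc, inv_pow, ← map_pow, hwm, mul_assoc, mul_inv_cancel, mul_one]
  have hmk : (QuotientGroup.mk g' : Γ ⧸ (H ⊔ ι.range)) = QuotientGroup.mk g := by
    rw [hg', QuotientGroup.mk_mul, QuotientGroup.mk_inv,
      (QuotientGroup.eq_one_iff (ι w')).mpr
        (le_sup_right (a := H) (show ι w' ∈ ι.range from ⟨w', rfl⟩)), inv_one, mul_one]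
  let H' : Subgroup Γ :=
    { carrier := {x | ∃ h' ∈ H, ∃ j : ℤ, x = h' * g' ^ j}
      mul_mem' := by
        rintro _ _ ⟨h₁, hh₁, j₁, rfl⟩ ⟨h₂, hh₂, j₂, rfl⟩
        refine ⟨h₁ * h₂, H.mul_mem hh₁ hh₂, j₁ + j₂, ?_⟩
        have := ((hcomm' h₂ hh₂).zpow_left j₁).eq
        rw [zpow_add, mul_assoc h₁, ← mul_assoc (g' ^ j₁), this]
        group
      one_mem' := ⟨1, H.one_mem, 0, by simp⟩
      inv_mem' := by
        rintro _ ⟨h₁, hh₁, j₁, rfl⟩
        refine ⟨h₁⁻¹, H.inv_mem hh₁, -j₁, ?_⟩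
        have := ((hcomm' h₁⁻¹ (H.inv_mem hh₁)).zpow_left (-j₁)).eq
        rw [mul_inv_rev, ← zpow_neg, this] }
  have hmem : ∀ x, x ∈ H' ↔ ∃ h' ∈ H, ∃ j : ℤ, x = h' * g' ^ j := fun x => Iff.rfl
  refine ⟨H', ?_, ?_, ?_⟩
  · rw [eq_bot_iff]
    rintro x ⟨hx1, hx2⟩
    obtain ⟨h', hh', j, rfl⟩ := (hmem _).mp hx1
    have h1 : (QuotientGroup.mk (h' * g' ^ j) : Γ ⧸ (H ⊔ ι.range)) = 1 :=
      (QuotientGroup.eq_one_iff _).mpr (le_sup_right (a := H) hx2)
    rw [QuotientGroup.mk_mul, (QuotientGroup.eq_one_iff h').mpr (le_sup_left (b := ι.range) hh'),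
      one_mul, QuotientGroup.mk_zpow, hmk] at h1
    have h2 : (m : ℤ) ∣ j := by
      rw [hm]
      exact orderOf_dvd_iff_zpow_eq_one.mpr h1
    obtain ⟨j', rfl⟩ := h2
    have h3 : h' * g' ^ ((m : ℤ) * j') ∈ H := by
      rw [zpow_mul, zpow_natCast, hg'm]
      exact H.mul_mem hh' (H.zpow_mem hh _)
    have h4 : h' * g' ^ ((m : ℤ) * j') ∈ H ⊓ ι.range := ⟨h3, hx2⟩
    rwa [hH] at h4
  · intro h₁ hh₁
    exact (hmem _).mpr ⟨h₁, hh₁, 0, by simp⟩
  · intro heq
    have h1 : g' ∈ H' := (hmem _).mpr ⟨1, H.one_mem, 1, by simp⟩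
    rw [heq] at h1
    apply hgM
    have : g = g' * ι w' := by rw [hg']; group
    rw [this]
    exact (H ⊔ ι.range).mul_mem (le_sup_left (b := ι.range) h1)
      (le_sup_right (a := H) (show ι w' ∈ ι.range from ⟨w', rfl⟩))

include hι hcent hcomm hH in
theorem card_sq_of_maximal_level [IsAlgClosed k] [Finite (Γ ⧸ ι.range)]
    (hcop : (Nat.card (Γ ⧸ ι.range)).Coprime (ringExpChar k))
    (hmax : ∀ H' : Subgroup Γ, H' ⊓ ι.range = ⊥ → H ≤ H' → H' = H) :
    Nat.card H ^ 2 = Nat.card (Γ ⧸ ι.range) := by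
  have hHcomm : ∀ h₁ ∈ H, ∀ h₂ ∈ H, h₁ * h₂ = h₂ * h₁ := by
    intro h₁ hh₁ h₂ hh₂
    have h1 : ⁅h₁, h₂⁆ ∈ H ⊓ ι.range :=
      ⟨H.mul_mem (H.mul_mem (H.mul_mem hh₁ hh₂) (H.inv_mem hh₁)) (H.inv_mem hh₂),
        comm_mem_range ι hcomm h₁ h₂⟩
    rw [hH, Subgroup.mem_bot] at h1
    exact commutatorElement_eq_one_iff_mul_comm.mp h1
  have hself : H ⊔ ι.range = Subgroup.centralizer ((H ⊔ ι.range : Subgroup Γ) : Set Γ) := by
    apply le_antisymm
    · apply sup_le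
      · intro h hh
        exact mem_centralizer_sup hcent H h (fun h' hh' => hHcomm h hh h' hh')
      · rw [hcent]; exact Subgroup.center_le_centralizer _
    · intro g hg
      by_contra hgM
      rw [Subgroup.mem_centralizer_iff] at hg
      obtain ⟨H', h1, h2, h3⟩ := exists_level_extension hcent hcomm H hH g
        (fun h hh => (hg h (le_sup_left (b := ι.range) hh)).symm) hgM
      exact h3 (hmax H' h1 h2)
  have h2 := ((main k Γ ι hι hcent hcomm hcop (H ⊔ ι.range) le_sup_right).out 2 1).mp hself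
  rw [relIndex_level hcent H hH, Subgroup.index_eq_card] at h2
  exact h2.2

end Lagr

end Groth.Agent.Lib.Helper5.Theta
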