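import Mathlib
import Groth.Agent.Lib.Helper5.Theta.H

set_option autoImplicit false
open scoped commutatorElement

namespace Groth.Agent.Lib.Helper5.Theta

universe u v w

section Semi
variable {k : Type u} [Field k] [IsAlgClosed k] {Γ : Type u} [Group Γ] {ι : kˣ →* Γ}
    (hι : Function.Injective ι) (hcent : ι.range = Subgroup.center Γ)
    (hcomm : commutator Γ ≤ ι.range)
    {V : Type v} [AddCommGroup V] [Module k V] [FiniteDimensional k V]
    {ρ : Representation k Γ V}
    {W : Type w} [AddCommGroup W] [Module k W]
    {σ : Representation k Γ W}

include hcent in
theorem span_range_eq_top [ρ.IsIrreducible] (h1 : IsWt1 ι ρ) :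
    Submodule.span k (Set.range ρ) = ⊤ := by
  rw [eq_top_iff, ← span_sec_eq_top hcent h1]
  apply Submodule.span_mono
  rintro _ ⟨x, rfl⟩
  exact ⟨_, rfl⟩

include hι hcent hcomm in
theorem semisimple_of_wt1 [ρ.IsIrreducible] (h1 : IsWt1 ι ρ) (h2 : IsWt1 ι σ) :
    Representation.IsSemisimpleRepresentation σ := by
  haveI : IsSemisimpleRing (Module.End k V) := IsSemisimpleRing.moduleEnd k V
  letI : Module (Module.End k V) W :=
    Module.compHom W (θAlg hι hcent hcomm h1 h2).toRingHom
  have hsmul : ∀ (a : Module.End k V) (w : W), a • w = θAlg hι hcent hcomm h1 h2 a w :=
    fun _ _ => rfl
  haveI : IsSemisimpleModule (Module.End k V) W := inferInstance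
  let e : Subrepresentation σ ≃o Submodule (Module.End k V) W :=
    { toFun := fun U =>
        { carrier := U.toSubmodule
          add_mem' := fun ha hb => U.toSubmodule.add_mem ha hb
          zero_mem' := U.toSubmodule.zero_mem
          smul_mem' := by
            intro a w hw
            rw [hsmul]
            have ha : a ∈ Submodule.span k (Set.range ρ) := by
              rw [span_range_eq_top hcent h1]; trivial
            induction ha using Submodule.span_induction with
            | mem x hx =>
              obtain ⟨g, rfl⟩ := hx
              rw [θAlg_apply]
              exact U.apply_mem_toSubmodule g hw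
            | zero => rw [map_zero]; exact U.toSubmodule.zero_mem
            | add x y _ _ hx hy =>
              rw [map_add]
              exact U.toSubmodule.add_mem hx hy
            | smul c x _ hx =>
              rw [map_smul]
              exact U.toSubmodule.smul_mem c hx }
      invFun := fun N =>
        { toSubmodule :=
            { carrier := N
              add_mem' := fun ha hb => N.add_mem ha hb
              zero_mem' := N.zero_mem
              smul_mem' := by
                intro c w hw
                have : c • w = (c • (1 : Module.End k V)) • w := by
                  rw [hsmul, map_smul, map_one]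
                  rfl
                rw [this]
                exact N.smul_mem _ hw }
          apply_mem_toSubmodule := by
            intro g w hw
            have : σ g w = (ρ g) • w := by
              rw [hsmul, θAlg_apply]
            rw [this]
            exact N.smul_mem _ hw }
      left_inv := fun U => rfl
      right_inv := fun N => rfl
      map_rel_iff' := Iff.rfl }
  exact (OrderIso.complementedLattice_iff e).mpr inferInstance

end Semi

end Groth.Agent.Lib.Helper5.Theta
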