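import Mathlib
import Groth.Agent.Lib.Helper5.Theta.I

set_option autoImplicit false

namespace Groth.Agent.Lib.Helper5.Theta

universe u
open CategoryTheory

theorem main17507 (k : Type u) [Field k] [IsAlgClosed k]
    (Γ : Type u) [Group Γ] (ι : kˣ →* Γ) (hι : Function.Injective ι)
    (hcent : ι.range = Subgroup.center Γ) (hcomm : commutator Γ ≤ ι.range)
    [Finite (Γ ⧸ ι.range)] (hcop : (Nat.card (Γ ⧸ ι.range)).Coprime (ringExpChar k))
    (V : FDRep k Γ) (hV : Representation.IsIrreducible V.ρ) (hV1 : ∀ (z : kˣ) (v : V), V.ρ (ι z) v = (z : k) • v)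
    (W : FDRep k Γ) (hW1 : ∀ (z : kˣ) (w : W), W.ρ (ι z) w = (z : k) • w)
    (H : Subgroup Γ) (hH : H ⊓ ι.range = ⊥) (hmax : ∀ H' : Subgroup Γ, H' ⊓ ι.range = ⊥ → H ≤ H' → H' = H) :
    Representation.IsSemisimpleRepresentation W.ρ ∧
      Module.finrank k W =
        Module.finrank k (Representation.invariants (W.ρ.comp H.subtype)) * Module.finrank k V := by
  refine ⟨semisimple_of_wt1 hι hcent hcomm (ρ := V.ρ) (σ := W.ρ) hV1 hW1, ?_⟩
  have h1 := finrank_eq_card_level_mul hι hcent hcomm H hH hcop (σ := W.ρ) hW1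
  have h2 := finrank_sq hι hcent hcomm (ρ := V.ρ) hV1
  have h3 := card_sq_of_maximal_level hι hcent hcomm H hH hcop hmax
  have h4 : Module.finrank k V = Nat.card H := by
    apply Nat.pow_left_injective (n := 2) (by norm_num)
    show Module.finrank k V ^ 2 = Nat.card H ^ 2
    rw [h2, h3]
  rw [h1, h4, mul_comm]

end Groth.Agent.Lib.Helper5.Theta
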